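import Mathlib

/-!
Flat formally unramified morphisms of finite type are étale over a base with finitely many minimal primes.
-/

namespace Groth.Agent.UnramLib

universe u

open TensorProduct

/-- A module flat over `R` is flat over a formally unramified `R`-algebra acting on it. -/
theorem flat_of_formallyUnramified (R C B : Type u) [CommRing R] [CommRing C] [CommRing B] [Algebra R C]
    [Algebra R B] [Algebra C B] [IsScalarTower R C B] [Algebra.EssFiniteType R C]
    [Algebra.FormallyUnramified R C] [Module.Flat R B] : Module.Flat C B := by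
  let f : C →ₐ[R] B := IsScalarTower.toAlgHom R C B
  let t : C ⊗[R] B := Algebra.TensorProduct.map (AlgHom.id R C) f (Algebra.FormallyUnramified.elem R C)
  have key : ∀ c : C, ((1 : C) ⊗ₜ[R] algebraMap C B c) * t = (c ⊗ₜ[R] (1 : B)) * t := fun c => by
    have := congrArg (Algebra.TensorProduct.map (AlgHom.id R C) f)
      (Algebra.FormallyUnramified.one_tmul_mul_elem (R := R) c)
    simp only [map_mul, Algebra.TensorProduct.map_tmul, AlgHom.id_apply, map_one, f,
      IsScalarTower.toAlgHom_apply] at this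
    exact this
  let π : C ⊗[R] B →ₐ[C] B := Algebra.TensorProduct.lift (Algebra.ofId C B) (AlgHom.id R B) fun _ _ => Commute.all _ _
  let σ : B →ₗ[C] C ⊗[R] B :=
    { toFun := fun b => t * ((1 : C) ⊗ₜ[R] b)
      map_add' := fun a b => by rw [TensorProduct.tmul_add, mul_add]
      map_smul' := fun c b => by
        rw [RingHom.id_apply, Algebra.smul_def c b, Algebra.smul_def c (t * _),
          show algebraMap C (C ⊗[R] B) c = c ⊗ₜ[R] (1 : B) from rfl,
          show (1 : C) ⊗ₜ[R] (algebraMap C B c * b) = ((1 : C) ⊗ₜ[R] algebraMap C B c) * ((1 : C) ⊗ₜ[R] b) by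
            rw [Algebra.TensorProduct.tmul_mul_tmul, one_mul],
          ← mul_assoc, mul_comm t, key, mul_assoc] }
  have ht : π t = 1 := by
    have : (π.restrictScalars R).comp (Algebra.TensorProduct.map (AlgHom.id R C) f) =
        f.comp (Algebra.TensorProduct.lmul' R (S := C)) := by
      ext c <;> simp [π, f]
    show ((π.restrictScalars R).comp (Algebra.TensorProduct.map (AlgHom.id R C) f))
      (Algebra.FormallyUnramified.elem R C) = 1
    rw [this, AlgHom.comp_apply, Algebra.FormallyUnramified.lmul_elem, map_one]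
  refine Module.Flat.of_retract σ π.toLinearMap (LinearMap.ext fun b => ?_)
  show π (t * ((1 : C) ⊗ₜ[R] b)) = b
  rw [map_mul, ht, one_mul]
  simp [π]

/-- A pure ideal of a ring with finitely many minimal primes is finitely generated. -/
theorem fg_of_pure {D : Type u} [CommRing D] (hD : (minimalPrimes D).Finite) (I : Ideal D) [I.Pure] :
    I.FG := by
  classical
  have hgen : ∀ p q : Ideal D, p.IsPrime → q.IsPrime → q ≤ p → I ≤ p → I ≤ q := by
    intro p q hp hq hqp hIp x hx
    obtain ⟨y, hy, hxy⟩ := Ideal.exists_eq_mul_of_pure hx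
    have h0 : x * (1 - y) ∈ q := by rw [mul_sub, mul_one, ← hxy, sub_self]; exact zero_mem q
    refine (hq.mem_or_mem h0).resolve_right fun h => hp.ne_top ((Ideal.eq_top_iff_one _).2 ?_)
    simpa using add_mem (hqp h) (hIp hy)
  let others := hD.toFinset.filter fun q => ¬ I ≤ q
  have hcov : I ⊔ others.inf id = ⊤ := by
    by_contra hne
    obtain ⟨m, hm, hle⟩ := Ideal.exists_le_maximal _ hne
    obtain ⟨q, hq, hqm⟩ := (Ideal.IsPrime.inf_le' hm.isPrime).1 (le_sup_right.trans hle)
    rw [Finset.mem_filter, Set.Finite.mem_toFinset] at hq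
    exact hq.2 (hgen m q hm.isPrime hq.1.1.1 hqm (le_sup_left.trans hle))
  obtain ⟨i, hi, j, hj, hij⟩ := Submodule.mem_sup.1 (hcov ▸ (Submodule.mem_top : (1 : D) ∈ ⊤))
  have hjq : ∀ q ∈ others, j ∈ q := fun q hq => (Finset.inf_le (f := id) hq) hj
  have hnil : IsNilpotent (i * j) := by
    rw [← mem_nilradical, nilradical_eq_sInf, Submodule.mem_sInf]
    intro P hP
    haveI : Ideal.IsPrime P := hP
    obtain ⟨q, hq, hqP⟩ := Ideal.exists_minimalPrimes_le (show (⊥ : Ideal D) ≤ P from bot_le)
    by_cases hIq : I ≤ q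
    · exact hqP (q.mul_mem_right _ (hIq hi))
    · exact hqP (q.mul_mem_left _ (hjq q (Finset.mem_filter.2 ⟨(Set.Finite.mem_toFinset _).2 hq, hIq⟩)))
  obtain ⟨N, hN⟩ := hnil
  obtain ⟨a, b, hab⟩ : IsCoprime (i ^ (N + 1)) (j ^ (N + 1)) :=
    IsCoprime.pow (⟨1, 1, by rw [one_mul, one_mul, hij]⟩ : IsCoprime i j)
  let e := a * i ^ (N + 1)
  have he : e ∈ I := I.mul_mem_left _ (Ideal.pow_mem_of_mem _ hi _ N.succ_pos)
  have h1e : 1 - e = b * j ^ (N + 1) := by rw [← hab]; ring
  have hidem : e * (1 - e) = 0 := by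
    rw [h1e]
    have : i ^ (N + 1) * j ^ (N + 1) = 0 := by rw [← mul_pow, pow_succ, hN, zero_mul]
    linear_combination a * b * this
  refine ⟨{e}, ?_⟩
  rw [Finset.coe_singleton]
  refine le_antisymm (Ideal.span_le.2 (Set.singleton_subset_iff.2 he)) fun x hx => ?_
  rw [Ideal.mem_span_singleton']
  refine ⟨x, ?_⟩
  by_contra hne
  have hne' : x * (1 - e) ≠ 0 := fun h => hne (by linear_combination -h)
  have hann : LinearMap.ker (LinearMap.toSpanSingleton D D (x * (1 - e))) ≠ ⊤ := fun h => hne' (by
    simpa using (h ▸ Submodule.mem_top : (1 : D) ∈ LinearMap.ker (LinearMap.toSpanSingleton D D (x * (1 - e)))))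
  obtain ⟨m, hm, hle⟩ := Ideal.exists_le_maximal _ hann
  have hmem : ∀ c : D, c * (x * (1 - e)) = 0 → c ∈ m := fun c hc => hle hc
  by_cases hIm : I ≤ m
  · obtain ⟨y, hy, hxy⟩ := Ideal.exists_eq_mul_of_pure hx
    have := hmem (1 - y) (by linear_combination (1 - e) * hxy)
    exact hm.ne_top ((Ideal.eq_top_iff_one _).2 (by simpa using add_mem this (hIm hy)))
  · obtain ⟨q, hq, hqm⟩ := Ideal.exists_minimalPrimes_le (show (⊥ : Ideal D) ≤ m from bot_le)
    haveI := hm.isPrime
    have hIq : ¬ I ≤ q := fun h => hIm (h.trans hqm)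
    have h1 : 1 - e ∈ m := by
      rw [h1e]
      exact m.mul_mem_left _ (Ideal.pow_mem_of_mem _
        (hqm (hjq q (Finset.mem_filter.2 ⟨(Set.Finite.mem_toFinset _).2 hq, hIq⟩))) _ N.succ_pos)
    have h2 := hmem e (by linear_combination x * hidem)
    exact hm.ne_top ((Ideal.eq_top_iff_one _).2 (by simpa using add_mem h1 h2))

theorem finite_minimalPrimes_of_etale (A C : Type u) [CommRing A] [CommRing C] [Algebra A C]
    [Algebra.Etale A C] (hA : (minimalPrimes A).Finite) : (minimalPrimes C).Finite := by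
  haveI : Algebra.QuasiFinite A C := ⟨fun P _ => Algebra.FormallyUnramified.finite_of_free P.ResidueField _⟩
  refine Set.Finite.subset (hA.biUnion fun p _ => Algebra.QuasiFinite.finite_primesOver (S := C) p) ?_
  intro q hq
  haveI : q.IsPrime := hq.1.1
  refine Set.mem_biUnion (x := q.comap (algebraMap A C)) ?_ ⟨hq.1.1, ⟨rfl⟩⟩
  refine ⟨⟨Ideal.IsPrime.comap _, bot_le⟩, fun p hp hple => ?_⟩
  haveI := hp.1
  haveI : q.LiesOver (q.comap (algebraMap A C)) := ⟨rfl⟩
  obtain ⟨Q, hQ, hQp, hQo⟩ := Ideal.exists_ideal_le_liesOver_of_le (S := C) q hple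
  have hqQ : q ≤ Q := hq.2 ⟨hQp, bot_le⟩ hQ
  intro a ha
  rw [Ideal.mem_comap] at ha
  rw [hQo.over]
  exact hqQ ha

theorem finitePresentation_of_flat_of_formallyUnramified (A B : Type u) [CommRing A] [CommRing B] [Algebra A B]
    [Algebra.FiniteType A B] [Algebra.FormallyUnramified A B] [Module.Flat A B]
    (hA : (minimalPrimes A).Finite) : Algebra.FinitePresentation A B := by
  classical
  let s : Set B := {g | HasStandardEtaleSurjectionOn A g}
  refine Algebra.FinitePresentation.of_span_eq_top_target s ?_ ?_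
  · by_contra hne
    obtain ⟨m, hm, hle⟩ := Ideal.exists_le_maximal _ hne
    obtain ⟨g, hg, hgs⟩ := Algebra.IsUnramifiedAt.exists_hasStandardEtaleSurjectionOn (R := A) m
    exact hg (hle (Ideal.subset_span hgs))
  rintro g ⟨P, φ, hφ⟩
  letI : Algebra P.Ring (Localization.Away g) := φ.toRingHom.toAlgebra
  haveI : IsScalarTower A P.Ring (Localization.Away g) :=
    IsScalarTower.of_algebraMap_eq fun a => (φ.commutes a).symm
  haveI : Module.Flat A (Localization.Away g) := Module.Flat.trans A B _
  haveI := flat_of_formallyUnramified A P.Ring (Localization.Away g)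
  let e := Ideal.quotientKerAlgEquivOfSurjective (f := Algebra.ofId P.Ring (Localization.Away g)) hφ
  haveI : (RingHom.ker (Algebra.ofId P.Ring (Localization.Away g))).Pure :=
    Module.Flat.of_linearEquiv e.toLinearEquiv
  exact Algebra.FinitePresentation.of_surjective hφ
    (fg_of_pure (finite_minimalPrimes_of_etale A P.Ring hA)
      (RingHom.ker (Algebra.ofId P.Ring (Localization.Away g))))

end Groth.Agent.UnramLib
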